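import Cfsg.Agent.H349.KBE.RowG2
import Cfsg.Agent.H191.KB.Final
import Cfsg.Agent.H804.KB.AbChev

/-!
# S4822 [KE1]: the row `G₂(q)` (helper349)

`row_G2` from `kb_G2` (`p ≤ k_B(S)`), `H804.KB.ab_chev` (`AbOut`) and the criterion `H191.KB.row_of_ab`.
-/

set_option autoImplicit false

open Cfsg Subgroup Cfsg.Agent.H508.KB

namespace Cfsg.Agent.H349.KBE

universe u

theorem row_G2 {p : ℕ} [Fact p.Prime] {M : Ideal AlgInt} {S : Type u} [Group S] [Finite S] [IsSimpleGroup S]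
    {r : ℕ} [Fact r.Prime] {F : Type} [Field F] [Fintype F] [CharP F r] (hrp : r ≠ p) (h11 : 11 ≤ p)
    (hM : IsPModular p M) (h3 : 3 ≤ Fintype.card F) (e : Nonempty (S ≃* Lie.chevG2.group F)) (hP : ∀ P : Sylow p S, ¬ IsCyclic ↥(P : Subgroup S)) :
    Row p M S :=
  H191.KB.row_of_ab hM (H804.KB.ab_chev hrp (by omega) (Or.inl ⟨h3, e⟩)) (kb_G2 hrp (by omega) hM e hP)

end Cfsg.Agent.H349.KBE
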