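import Cfsg.Agent.H349.KBE.TwoRows
import Cfsg.Agent.H129.CycRow
import Cfsg.Agent.H296.KB.Rank
import Cfsg.Agent.S1059

/-!
# S4822, `G₂(q)` in cross characteristic (task KE1; helper349)

* `le_kB` : `Cls p S → p ≤ k(B₀(S))`;
* `isCyclic_of_cycAt` : cyclic Sylow subgroups;
* `dvd_of_nc` : `G₂(q)`: if the Sylow `p`-subgroups are not cyclic then `p ∣ q² - 1`;
* `kb_G2` : `p ≤ k(B₀(G₂(q)))`.
-/

set_option autoImplicit false

namespace Cfsg.Agent.H349.KBE

open Cfsg Cfsg.Lie Subgroup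
open Cfsg.Agent.H508.KB Cfsg.Agent.H129.CycT

universe u

/-- `p` classes of `p`-elements give `p ≤ k(B₀)` -/
theorem le_kB {p : ℕ} [hpp : Fact p.Prime] {M : Ideal AlgInt} {S : Type u} [Group S] [Finite S] (hM : IsPModular p M)
    (h : Cls p S) : p ≤ kB M S := by
  obtain ⟨X, hc, h1, h2⟩ := h
  have h3 : ∀ x ∈ X, ∃ k, orderOf x = p ^ k := by
    intro x hx
    rcases (Nat.dvd_prime hpp.out).1 (orderOf_dvd_of_pow_eq_one (h1 x hx)) with h4 | h4
    · exact ⟨0, by rw [h4, pow_zero]⟩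
    · exact ⟨1, by rw [h4, pow_one]⟩
  refine le_trans ?_ (H296.KB.sum_le_kB hM X h3 h2)
  calc p = ∑ x ∈ X, 1 := by rw [Finset.sum_const, smul_eq_mul, mul_one, hc]
    _ ≤ _ := Finset.sum_le_sum fun x _ => H296.KB.one_le_rank hM

/-- cyclic Sylow subgroups -/
theorem isCyclic_of_cycAt {G : Type u} [Group G] [Finite G] {p : ℕ} [hpp : Fact p.Prime] (h : CycAt G p)
    (P : Sylow p G) : IsCyclic ↥(P : Subgroup G) := by
  by_cases hd : p ∣ Nat.card G
  · have hnt : Nontrivial ↥(P : Subgroup G) := by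
      rw [← Finite.one_lt_card_iff_nontrivial]
      refine lt_of_lt_of_le hpp.out.one_lt (Nat.le_of_dvd Nat.card_pos ?_)
      exact P.dvd_card_of_dvd_card hd
    have hZ : Nontrivial ↥(Subgroup.center ↥(P : Subgroup G)) := P.2.center_nontrivial
    have hZp : IsPGroup p ↥(Subgroup.center ↥(P : Subgroup G)) := P.2.to_subgroup _
    obtain ⟨z, hz⟩ : ∃ z : ↥(Subgroup.center ↥(P : Subgroup G)), orderOf z = p := by
      refine exists_prime_orderOf_dvd_card' p ?_
      obtain ⟨n, hn0, hn⟩ := (hZp.nontrivial_iff_card).1 hZ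
      rw [hn]
      exact dvd_pow_self p hn0.ne'
    have hzr : orderOf ((z : ↥(P : Subgroup G)) : G) = p := by
      rw [Subgroup.orderOf_coe, Subgroup.orderOf_coe, hz]
    have hc := CycAt.isCyclic hpp.out h hzr
    have hle : (P : Subgroup G) ≤ centralizer {((z : ↥(P : Subgroup G)) : G)} := by
      intro x hx
      rw [Subgroup.mem_centralizer_singleton_iff]
      exact congrArg Subtype.val (Subgroup.mem_center_iff.1 z.2 ⟨x, hx⟩)
    exact isCyclic_of_injective (Subgroup.inclusion hle) (Subgroup.inclusion_injective hle)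
  · have h1 : Nat.card ↥(P : Subgroup G) = 1 := by
      have h2 := (P : Subgroup G).card_subgroup_dvd_card
      obtain ⟨k, hk⟩ := IsPGroup.iff_card.1 P.2
      rcases Nat.eq_zero_or_pos k with rfl | h3
      · rw [hk, pow_zero]
      · exact absurd ((dvd_pow_self p h3.ne').trans (hk ▸ h2)) hd
    have : Subsingleton ↥(P : Subgroup G) := (Nat.card_eq_one_iff_unique.1 h1).1
    infer_instance

section G2

variable {p : ℕ} [hpp : Fact p.Prime] {r : ℕ} [hr : Fact r.Prime] {F : Type} [Field F] [Fintype F] [CharP F r]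

theorem dvd_of_nc (hrp : r ≠ p) (h5 : 5 ≤ p)
    (hP : ∀ P : Sylow p ↥(chevG2.group F), ¬ IsCyclic ↥(P : Subgroup ↥(chevG2.group F))) :
    p ∣ Fintype.card F ^ 2 - 1 := by
  by_contra hd
  obtain ⟨q, hq⟩ : ∃ q, q = Fintype.card F := ⟨_, rfl⟩
  rw [← hq] at hd
  have hq2 : 2 ≤ q := by rw [hq]; exact Fintype.one_lt_card
  have hno : ¬ CycAt ↥(chevG2.group F) p := fun h => hP default (isCyclic_of_cycAt h _)
  have hdG : p ∣ Nat.card ↥(chevG2.group F) := by
    by_contra h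
    refine hP default ?_
    have h1 : Nat.card ↥((default : Sylow p ↥(chevG2.group F)) : Subgroup ↥(chevG2.group F)) = 1 := by
      have h2 := ((default : Sylow p ↥(chevG2.group F)) : Subgroup ↥(chevG2.group F)).card_subgroup_dvd_card
      obtain ⟨k, hk⟩ := IsPGroup.iff_card.1 (default : Sylow p ↥(chevG2.group F)).2
      rcases Nat.eq_zero_or_pos k with rfl | h3
      · rw [hk, pow_zero]
      · exact absurd ((dvd_pow_self p h3.ne').trans (hk ▸ h2)) h
    have : Subsingleton ↥((default : Sylow p ↥(chevG2.group F)) : Subgroup ↥(chevG2.group F)) :=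
      (Nat.card_eq_one_iff_unique.1 h1).1
    infer_instance
  rw [Cfsg.Agent.S1059.result hq.symm] at hdG
  have hpq : ¬ p ∣ q ^ 6 := by
    intro h
    obtain ⟨n, -, hn⟩ := FiniteField.card F r
    rw [← hq] at hn
    have h1 := hpp.out.dvd_of_dvd_pow h
    rw [hn] at h1
    exact hrp ((Nat.prime_dvd_prime_iff_eq hpp.out hr.out).1 (hpp.out.dvd_of_dvd_pow h1)).symm
  have h6 : p ∣ q ^ 6 - 1 := by
    rcases (Nat.Prime.dvd_mul hpp.out).1 hdG with h | h
    · rcases (Nat.Prime.dvd_mul hpp.out).1 h with h' | h'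
      · exact absurd h' hpq
      · exact absurd h' hd
    · exact h
  have hpz : Prime (p : ℤ) := Nat.prime_iff_prime_int.1 hpp.out
  have h6z : (p : ℤ) ∣ ((q : ℤ) ^ 2 - 1) * ((1 + (q : ℤ) + (q : ℤ) ^ 2) * (1 - (q : ℤ) + (q : ℤ) ^ 2)) := by
    have e : ((q : ℤ) ^ 2 - 1) * ((1 + (q : ℤ) + (q : ℤ) ^ 2) * (1 - (q : ℤ) + (q : ℤ) ^ 2)) =
        ((q ^ 6 - 1 : ℕ) : ℤ) := by
      rw [Nat.cast_sub (Nat.one_le_pow _ _ (by omega))]
      push_cast
      ring
    rw [e]
    exact Int.natCast_dvd_natCast.2 h6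
  have hdz : ¬ (p : ℤ) ∣ (q : ℤ) ^ 2 - 1 := by
    intro h
    apply hd
    have e : (q : ℤ) ^ 2 - 1 = ((q ^ 2 - 1 : ℕ) : ℤ) := by
      rw [Nat.cast_sub (Nat.one_le_pow _ _ (by omega))]
      push_cast
      ring
    rw [e] at h
    exact Int.natCast_dvd_natCast.1 h
  rcases (hpz.dvd_or_dvd h6z).resolve_left hdz |> hpz.dvd_or_dvd with h | h
  · refine hno (at_G2_3 hq.symm (N := 1 + q + q ^ 2) (by push_cast; ring) hpp.out ?_ (by omega))
    exact Int.natCast_dvd_natCast.1 (by push_cast; exact h)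
  · have hle : q ≤ q ^ 2 := Nat.le_self_pow (by norm_num) _
    have hN : ((q ^ 2 - q + 1 : ℕ) : ℤ) = 1 - (q : ℤ) + (q : ℤ) ^ 2 := by
      push_cast [Nat.cast_sub hle]; ring
    exact hno (at_G2_6 hq.symm hN hpp.out (Int.natCast_dvd_natCast.1 (by rw [hN]; exact h)) (by omega))

theorem sylow_equiv {G H : Type*} [Group G] [Group H] (e : G ≃* H) {p : ℕ} [Fact p.Prime]
    (hP : ∀ P : Sylow p G, ¬ IsCyclic ↥(P : Subgroup G)) : ∀ P : Sylow p H, ¬ IsCyclic ↥(P : Subgroup H) := by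
  intro P hc
  have h1 : Function.Injective e.toMonoidHom := e.injective
  have h2 : (P : Subgroup H) ≤ e.toMonoidHom.range := fun x _ => ⟨e.symm x, e.apply_symm_apply x⟩
  refine hP (P.comapOfInjective e.toMonoidHom h1 h2) ?_
  let f : ↥((P : Subgroup H).comap e.toMonoidHom) →* ↥(P : Subgroup H) :=
    (e.toMonoidHom.comp ((P : Subgroup H).comap e.toMonoidHom).subtype).codRestrict (P : Subgroup H) fun x => x.2
  have hf : Function.Injective f := fun x y hxy => Subtype.ext (h1 (congrArg Subtype.val hxy))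
  exact isCyclic_of_injective f hf

variable {S : Type u} [Group S] [Finite S] {M : Ideal AlgInt}

/-- **`G₂(q)`** -/
theorem kb_G2 (hrp : r ≠ p) (h7 : 7 ≤ p) (hM : IsPModular p M) (e : Nonempty (S ≃* Lie.chevG2.group F))
    (hP : ∀ P : Sylow p S, ¬ IsCyclic ↥(P : Subgroup S)) : p ≤ kB M S := by
  obtain ⟨e⟩ := e
  have h1 := dvd_of_nc (F := F) hrp (by omega) (sylow_equiv e hP)
  exact le_kB hM ((cls_G2 h7 hrp.symm h1).congr e)

end G2

end Cfsg.Agent.H349.KBE
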