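import Cfsg.Agent.H349.KBE.TwoRoots
import Cfsg.Agent.H316.U6Model
import Cfsg.Agent.H129.CycT2

/-!
# `p` classes of `p`-elements, `p ∣ q² - 1`: the untwisted groups and `²E₆(q)` (S4822 KE; helper349)
-/

set_option autoImplicit false

namespace Cfsg.Agent.H349.KBE

open Cfsg Cfsg.Lie Cfsg.Lie.ChevalleyDatum
open Cfsg.Agent.ChevalleyStructure Cfsg.Agent.ChevalleyStructure.Elts Cfsg.Agent.ChevalleyStructure.CoxeterGeomTypes
open Cfsg.Agent.Nodes Cfsg.Agent.Nodes.RGDChev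
open Cfsg.Agent.H316.U6
open Cfsg.Agent.ChevalleyStructure.HMatDiagAll (expo)

universe v

variable {l : ℕ} {M : CoxeterMatrix (Fin l)} {r q : ℕ} [Fact r.Prime] {K₀ : Type v} [Group K₀] {p : ℕ} [hpp : Fact p.Prime]

theorem cast_ne {n : ℤ} (h7 : 7 ≤ p) (hn : n ∣ 2 ^ 10 * 3 ^ 10 * 5 ^ 10) : (n : ZMod p) ≠ 0 := by
  intro h
  have h1 : (p : ℤ) ∣ n := (ZMod.intCast_zmod_eq_zero_iff_dvd n p).1 h
  have h2 : p ∣ 2 ^ 10 * 3 ^ 10 * 5 ^ 10 := by exact_mod_cast h1.trans hn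
  rcases (Nat.Prime.dvd_mul hpp.out).1 h2 with h3 | h3
  · rcases (Nat.Prime.dvd_mul hpp.out).1 h3 with h4 | h4
    · have := Nat.le_of_dvd (by norm_num) (hpp.out.dvd_of_dvd_pow h4)
      omega
    · have := Nat.le_of_dvd (by norm_num) (hpp.out.dvd_of_dvd_pow h4)
      omega
  · have := Nat.le_of_dvd (by norm_num) (hpp.out.dvd_of_dvd_pow h3)
    omega

theorem cls_g2 {hp : IsType chevG2 l M} (m : MData hp r q K₀) (hg : m.g = AddEquiv.refl _) (h7 : 7 ≤ p)
    (hpr : p ≠ r) (hd : p ∣ q ^ 2 - 1) : Cls p K₀ :=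
  cls_of m (by omega) hpr hd (s := 4) (t := 11) (A := 48) (C := 16) (by decide) (by decide) (by rw [hg]; rfl) (by rw [hg]; rfl)
    (by decide +kernel) (by decide +kernel) (by decide +kernel) (by decide +kernel) (cast_ne h7 (by norm_num)) (cast_ne h7 (by norm_num))

theorem cls_f4 {hp : IsType chevF4 l M} (m : MData hp r q K₀) (hg : m.g = AddEquiv.refl _) (h7 : 7 ≤ p)
    (hpr : p ≠ r) (hd : p ∣ q ^ 2 - 1) : Cls p K₀ :=
  cls_of m (by omega) hpr hd (s := 6) (t := 47) (A := 36) (C := 36) (by decide) (by decide) (by rw [hg]; rfl) (by rw [hg]; rfl)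
    (by decide +kernel) (by decide +kernel) (by decide +kernel) (by decide +kernel) (cast_ne h7 (by norm_num)) (cast_ne h7 (by norm_num))

theorem cls_e6 {hp : IsType chevE6 l M} (m : MData hp r q K₀) (hg : m.g = AddEquiv.refl _) (h7 : 7 ≤ p)
    (hpr : p ≠ r) (hd : p ∣ q ^ 2 - 1) : Cls p K₀ :=
  cls_of m (by omega) hpr hd (s := 11) (t := 71) (A := 48) (C := 48) (by decide) (by decide) (by rw [hg]; rfl) (by rw [hg]; rfl)
    (by decide +kernel) (by decide +kernel) (by decide +kernel) (by decide +kernel) (cast_ne h7 (by norm_num)) (cast_ne h7 (by norm_num))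

theorem cls_e7 {hp : IsType chevE7 l M} (m : MData hp r q K₀) (hg : m.g = AddEquiv.refl _) (h7 : 7 ≤ p)
    (hpr : p ≠ r) (hd : p ∣ q ^ 2 - 1) : Cls p K₀ :=
  cls_of m (by omega) hpr hd (s := 33) (t := 125) (A := 72) (C := 72) (by decide) (by decide) (by rw [hg]; rfl) (by rw [hg]; rfl)
    (by decide +kernel) (by decide +kernel) (by decide +kernel) (by decide +kernel) (cast_ne h7 (by norm_num)) (cast_ne h7 (by norm_num))

theorem cls_e8 {hp : IsType chevE8 l M} (m : MData hp r q K₀) (hg : m.g = AddEquiv.refl _) (h7 : 7 ≤ p)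
    (hpr : p ≠ r) (hd : p ∣ q ^ 2 - 1) : Cls p K₀ :=
  cls_of m (by omega) hpr hd (s := 13) (t := 239) (A := 120) (C := 120) (by decide) (by decide) (by rw [hg]; rfl) (by rw [hg]; rfl)
    (by decide +kernel) (by decide +kernel) (by decide +kernel) (by decide +kernel) (cast_ne h7 (by norm_num)) (cast_ne h7 (by norm_num))

theorem cls_twE6' (m : MData Nodes.RGDTwE6.hp r q K₀) (hg : m.g = H720.TwFr.permE H720.TwFr.rho6) (h7 : 7 ≤ p)
    (hpr : p ≠ r) (hd : p ∣ q ^ 2 - 1) : Cls p K₀ :=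
  cls_of m (by omega) hpr hd (s := 11) (t := 71) (A := 48) (C := 48) (by decide) (by decide) (by rw [hg]; decide +kernel)
    (by rw [hg]; decide +kernel)
    (by decide +kernel) (by decide +kernel) (by decide +kernel) (by decide +kernel) (cast_ne h7 (by norm_num)) (cast_ne h7 (by norm_num))

section Groups

variable {F : Type} [Field F] [Fintype F] [CharP F r]

theorem cls_G2 (h7 : 7 ≤ p) (hpr : p ≠ r) (hd : p ∣ Fintype.card F ^ 2 - 1) : Cls p ↥(chevG2.group F) := by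
  obtain ⟨m, hg, -⟩ := mdata_untw (r := r) (H129.CycT.typeG2) (fun h => absurd (congrArg ChevalleyDatum.nroots h) (by decide))
    (fun h => absurd (congrArg ChevalleyDatum.nroots h) (by decide)) F
  exact cls_g2 m hg h7 hpr hd

theorem cls_F4 (h7 : 7 ≤ p) (hpr : p ≠ r) (hd : p ∣ Fintype.card F ^ 2 - 1) : Cls p ↥(chevF4.group F) := by
  obtain ⟨m, hg, -⟩ := mdata_untw (r := r) (H129.CycT.typeF4) (fun h => absurd (congrArg ChevalleyDatum.nroots h) (by decide))
    (fun h => absurd (congrArg ChevalleyDatum.nroots h) (by decide)) F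
  exact cls_f4 m hg h7 hpr hd

theorem cls_E6 (h7 : 7 ≤ p) (hpr : p ≠ r) (hd : p ∣ Fintype.card F ^ 2 - 1) : Cls p ↥(chevE6.group F) := by
  obtain ⟨m, hg, -⟩ := mdata_untw (r := r) (H129.CycT.typeE6) (fun h => absurd (congrArg ChevalleyDatum.nroots h) (by decide))
    (fun h => absurd (congrArg ChevalleyDatum.nroots h) (by decide)) F
  exact cls_e6 m hg h7 hpr hd

theorem cls_E7 (h7 : 7 ≤ p) (hpr : p ≠ r) (hd : p ∣ Fintype.card F ^ 2 - 1) : Cls p ↥(chevE7.group F) := by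
  obtain ⟨m, hg, -⟩ := mdata_untw (r := r) (H129.CycT.typeE7) (fun h => absurd (congrArg ChevalleyDatum.nroots h) (by decide))
    (fun h => absurd (congrArg ChevalleyDatum.nroots h) (by decide)) F
  exact cls_e7 m hg h7 hpr hd

theorem cls_E8 (h7 : 7 ≤ p) (hpr : p ≠ r) (hd : p ∣ Fintype.card F ^ 2 - 1) : Cls p ↥(chevE8.group F) := by
  obtain ⟨m, hg, -⟩ := mdata_untw (r := r) (H129.CycT.typeE8) (fun h => absurd (congrArg ChevalleyDatum.nroots h) (by decide))
    (fun h => absurd (congrArg ChevalleyDatum.nroots h) (by decide)) F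
  exact cls_e8 m hg h7 hpr hd

theorem cls_twE6 (hq : IsPrimePow q) (hF : Fintype.card F = q ^ 2) (h7 : 7 ≤ p) (hpr : p ≠ r) (hd : p ∣ q ^ 2 - 1) :
    Cls p ↥(twistedE6 F q) := by
  obtain ⟨m, -, hg⟩ := mdata_twE6' (r := r) (K := F) hq hF
  exact cls_twE6' m hg h7 hpr hd

end Groups

end Cfsg.Agent.H349.KBE
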