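import Cfsg.Agent.H81.TorOrth
import Mathlib.FieldTheory.Finite.Basic

/-!
# `p` classes of `p`-elements in the exceptional groups, `p ∣ q² - 1` (S4822 KE; helper349)

`m : MData hp r q K₀`; `s`, `t` orthogonal roots fixed by the Frobenius automorphism. For an odd prime `p ∣ q² - 1`,
`p ≠ r`, there are commuting elements `a`, `b` of order `p` with `ι (a ^ i b ^ j)` conjugate to `h_s(z) ^ i h_t(z) ^ j`.
The sum of the squares of the exponents of the eigenvalues on the Lie algebra is a class invariant.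

* `Cls p G` : `p` pairwise not conjugate elements with `x ^ p = 1`;
* `cls_of` : `Cls p K₀`.
-/

set_option autoImplicit false
set_option linter.unusedSectionVars false

namespace Cfsg.Agent.H349.KBE

open CoxeterSystem Cfsg Cfsg.Lie Cfsg.Lie.ChevalleyDatum
open Cfsg.Agent.ChevalleyStructure Cfsg.Agent.ChevalleyStructure.Elts Cfsg.Agent.ChevalleyStructure.CoxeterGeom
  Cfsg.Agent.ChevalleyStructure.CoxeterGeomTypes Cfsg.Agent.ChevalleyStructure.NPerm
open Cfsg.Agent.Tits.Roots Cfsg.Agent.Tits.Core Cfsg.Agent.Nodes Cfsg.Agent.Nodes.Reps Cfsg.Agent.Nodes.BNOf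
  Cfsg.Agent.Nodes.RGDChev
open Cfsg.Agent.KFacts.RgdChevCoord
open Cfsg.Agent.Nodes.RGDFold Cfsg.Agent.Nodes.RGDFoldSL
open Cfsg.Agent.H469.Exc Cfsg.Agent.H469.Exc.SigFr Cfsg.Agent.H316.U6
open Cfsg.Agent.BpExc.LangFr
open Cfsg.Agent.ChevalleyStructure.HMatDiagAll (expo)
open Cfsg.Agent.H81.TorOrth

universe u v w

/-- `p` pairwise not conjugate elements with `x ^ p = 1` -/
def Cls (p : ℕ) (G : Type*) [Group G] : Prop :=
  ∃ X : Finset G, X.card = p ∧ (∀ x ∈ X, x ^ p = 1) ∧ ∀ x ∈ X, ∀ y ∈ X, IsConj x y → x = y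

theorem Cls.congr {p : ℕ} {G H : Type*} [Group G] [Group H] (e : G ≃* H) (h : Cls p H) : Cls p G := by
  obtain ⟨X, hc, h1, h2⟩ := h
  refine ⟨X.map e.symm.toEquiv.toEmbedding, by rw [Finset.card_map, hc], ?_, ?_⟩
  · intro x hx
    obtain ⟨y, hy, rfl⟩ := Finset.mem_map.1 hx
    show e.symm y ^ p = 1
    rw [← map_pow, h1 y hy, map_one]
  · intro x hx x' hx' hcc
    obtain ⟨y, hy, rfl⟩ := Finset.mem_map.1 hx
    obtain ⟨y', hy', rfl⟩ := Finset.mem_map.1 hx'
    have h3 : IsConj (e (e.symm y)) (e (e.symm y')) := e.toMonoidHom.map_isConj hcc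
    rw [e.apply_symm_apply, e.apply_symm_apply] at h3
    rw [h2 y hy y' hy' h3]

/-! ### exponents of roots of unity -/

section Lg

variable {k : Type*} [Field k] {p : ℕ} {z : k}

open Classical in
/-- the exponent mod `p` -/
noncomputable def lg (p : ℕ) (z x : k) : ZMod p := if h : ∃ n : ℤ, z ^ n = x then ((h.choose : ℤ) : ZMod p) else 0

theorem lg_zpow (hp : p ≠ 0) (hz : IsPrimitiveRoot z p) (n : ℤ) : lg p z (z ^ n) = (n : ZMod p) := by
  have h : ∃ m : ℤ, z ^ m = z ^ n := ⟨n, rfl⟩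
  unfold lg
  rw [dif_pos h]
  have h1 := h.choose_spec
  have h0 : z ≠ 0 := hz.ne_zero hp
  have h2 : z ^ (h.choose - n) = 1 := by rw [zpow_sub₀ h0, h1, div_self (zpow_ne_zero _ h0)]
  have h3 := (hz.zpow_eq_one_iff_dvd _).1 h2
  have h4 := (ZMod.intCast_zmod_eq_zero_iff_dvd _ p).2 h3
  rw [Int.cast_sub, sub_eq_zero] at h4
  exact h4

end Lg

theorem charpoly_of_isConj {ι k : Type*} [Fintype ι] [DecidableEq ι] [Field k] {g h : GL ι k} (hc : IsConj g h) :
    Matrix.charpoly (Units.val h) = Matrix.charpoly (Units.val g) := by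
  obtain ⟨c, hc⟩ := isConj_iff.1 hc
  have h1 : c * g = h * c := mul_inv_eq_iff_eq_mul.1 hc
  have h2 : c.val * g.val = h.val * c.val := congrArg Units.val h1
  have h3 : h.val = c.val * g.val * (Units.val c⁻¹) := (Units.eq_mul_inv_iff_mul_eq c).2 h2.symm
  rw [h3, Matrix.coe_units_inv]
  exact Matrix.charpoly_units_conj c g.val

theorem map_eq_of_charpoly {ι k : Type*} [Fintype ι] [DecidableEq ι] [Field k]
    {d e : ι → k} (h : (Matrix.diagonal d : Matrix ι ι k).charpoly = (Matrix.diagonal e).charpoly) :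
    Finset.univ.val.map d = Finset.univ.val.map e := by
  rw [Matrix.charpoly_diagonal, Matrix.charpoly_diagonal] at h
  have h3 : ∀ f : ι → k, (∏ i, (Polynomial.X - Polynomial.C (f i))).roots = Finset.univ.val.map f := by
    intro f
    have h4 := Polynomial.roots_multiset_prod_X_sub_C (Finset.univ.val.map f)
    rw [Multiset.map_map] at h4
    exact h4
  have h5 := congrArg Polynomial.roots h
  rw [h3, h3] at h5
  exact h5

/-- conjugate diagonal matrices have the same entries -/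
theorem map_eq_of_isConj {ι k : Type*} [Fintype ι] [DecidableEq ι] [Field k] {g h : GL ι k} (hc : IsConj g h)
    {d e : ι → k} (hg : (g : Matrix ι ι k) = Matrix.diagonal d) (hh : (h : Matrix ι ι k) = Matrix.diagonal e) :
    Finset.univ.val.map d = Finset.univ.val.map e := by
  have h1 := charpoly_of_isConj hc
  rw [hg, hh] at h1
  exact map_eq_of_charpoly h1.symm

/-- the quadratic form on the exponents -/
theorem sum_sq_eq {ι k : Type*} [Fintype ι] [DecidableEq ι] [Field k] {g h : GL ι k} (hc : IsConj g h)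
    {p : ℕ} (hp : p ≠ 0) {z : k} (hz : IsPrimitiveRoot z p) {d e : ι → ℤ}
    (hg : (g : Matrix ι ι k) = Matrix.diagonal fun i => z ^ d i)
    (hh : (h : Matrix ι ι k) = Matrix.diagonal fun i => z ^ e i) :
    ∑ i, ((d i : ℤ) : ZMod p) ^ 2 = ∑ i, ((e i : ℤ) : ZMod p) ^ 2 := by
  have h1 := map_eq_of_isConj hc hg hh
  have h2 := congrArg (fun m : Multiset k => (m.map fun x => lg p z x ^ 2).sum) h1
  simp only [Multiset.map_map, Function.comp_def, lg_zpow hp hz] at h2
  exact h2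

/-- a binary quadratic form takes all values -/
theorem exists_sq {p : ℕ} [hp : Fact p.Prime] (hp2 : p ≠ 2) {A C : ZMod p} (hA : A ≠ 0) (hC : C ≠ 0) (c : ZMod p) :
    ∃ i j : ZMod p, A * i ^ 2 + C * j ^ 2 = c := by
  have hcard : Fintype.card (ZMod p) % 2 = 1 := by
    rw [ZMod.card]
    exact hp.out.eq_two_or_odd.resolve_left hp2
  have hf : (Polynomial.C A * Polynomial.X ^ 2 : Polynomial (ZMod p)).degree = 2 :=
    Polynomial.degree_C_mul_X_pow 2 hA
  have hg : (Polynomial.C C * Polynomial.X ^ 2 - Polynomial.C c : Polynomial (ZMod p)).degree = 2 := by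
    rw [Polynomial.degree_sub_C]
    · exact Polynomial.degree_C_mul_X_pow 2 hC
    · rw [Polynomial.degree_C_mul_X_pow 2 hC]
      decide
  obtain ⟨i, j, h⟩ := FiniteField.exists_root_sum_quadratic hf hg hcard
  refine ⟨i, j, ?_⟩
  simp only [Polynomial.eval_sub, Polynomial.eval_mul, Polynomial.eval_C, Polynomial.eval_pow, Polynomial.eval_X] at h
  linear_combination h

/-- a family indexed by `ZMod p` with an invariant -/
theorem cls_of_inv {G : Type*} [Group G] {p : ℕ} [hp : Fact p.Prime] (f : ZMod p → G) (h1 : ∀ c, f c ^ p = 1)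
    (h2 : ∀ c c', IsConj (f c) (f c') → c = c') : Cls p G := by
  classical
  have hinj : Function.Injective f := fun c c' h => h2 c c' (by rw [h])
  refine ⟨Finset.univ.map ⟨f, hinj⟩, ?_, ?_, ?_⟩
  · rw [Finset.card_map, Finset.card_univ, ZMod.card]
  · intro x hx
    obtain ⟨c, -, rfl⟩ := Finset.mem_map.1 hx
    exact h1 c
  · intro x hx y hy h
    obtain ⟨c, -, rfl⟩ := Finset.mem_map.1 hx
    obtain ⟨c', -, rfl⟩ := Finset.mem_map.1 hy
    rw [h2 c c' h]

/-- two commuting elements of order `p` whose products are conjugate to diagonal elements -/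
theorem cls_of_pair {ι k : Type*} [Fintype ι] [DecidableEq ι] [Field k] {K : Type*} [Group K] (φ : K →* GL ι k)
    {p : ℕ} [hpp : Fact p.Prime] (hp2 : p ≠ 2) {z : k} (hz : IsPrimitiveRoot z p) {a b : K} (hab : a * b = b * a)
    (ha : a ^ p = 1) (hb : b ^ p = 1) (d e : ι → ℤ)
    (hd : ∀ i j : ℕ, ∃ g : GL ι k, IsConj (φ (a ^ i * b ^ j)) g ∧
      (g : Matrix ι ι k) = Matrix.diagonal fun x => z ^ ((i : ℤ) * d x + (j : ℤ) * e x))
    (hA : ((∑ x, d x ^ 2 : ℤ) : ZMod p) ≠ 0) (hC : ((∑ x, e x ^ 2 : ℤ) : ZMod p) ≠ 0)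
    (hB : ((∑ x, d x * e x : ℤ) : ZMod p) = 0) : Cls p K := by
  have key : ∀ i j : ℕ, (∑ x, (((i : ℤ) * d x + (j : ℤ) * e x : ℤ) : ZMod p) ^ 2) =
      ((∑ x, d x ^ 2 : ℤ) : ZMod p) * (i : ZMod p) ^ 2 + ((∑ x, e x ^ 2 : ℤ) : ZMod p) * (j : ZMod p) ^ 2 := by
    intro i j
    have e1 : (∑ x, (((i : ℤ) * d x + (j : ℤ) * e x : ℤ) : ZMod p) ^ 2) =
        ((∑ x, d x ^ 2 : ℤ) : ZMod p) * (i : ZMod p) ^ 2 + ((∑ x, e x ^ 2 : ℤ) : ZMod p) * (j : ZMod p) ^ 2 +
        2 * (i : ZMod p) * (j : ZMod p) * ((∑ x, d x * e x : ℤ) : ZMod p) := by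
      push_cast
      rw [Finset.sum_mul, Finset.sum_mul, Finset.mul_sum, ← Finset.sum_add_distrib, ← Finset.sum_add_distrib]
      refine Finset.sum_congr rfl fun x _ => ?_
      ring
    rw [e1, hB, mul_zero, add_zero]
  choose u v huv using exists_sq hp2 hA hC
  refine cls_of_inv (fun c => a ^ (u c).val * b ^ (v c).val) ?_ ?_
  · intro c
    have hC : Commute a b := hab
    rw [(hC.pow_pow _ _).mul_pow, ← pow_mul, ← pow_mul, mul_comm (u c).val, mul_comm (v c).val, pow_mul, pow_mul, ha,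
      hb, one_pow, one_pow, one_mul]
  · intro c c' h
    obtain ⟨g, hg, hg'⟩ := hd (u c).val (v c).val
    obtain ⟨g₂, hg₂, hg₂'⟩ := hd (u c').val (v c').val
    have h1 : IsConj g g₂ := (hg.symm.trans (φ.map_isConj h)).trans hg₂
    have h2 := sum_sq_eq h1 hpp.out.ne_zero hz hg' hg₂'
    rw [key, key, ZMod.natCast_zmod_val, ZMod.natCast_zmod_val, ZMod.natCast_zmod_val, ZMod.natCast_zmod_val, huv,
      huv] at h2
    exact h2

/-! ### the exceptional groups -/

section Main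

variable {D : ChevalleyDatum} {l : ℕ} {M : CoxeterMatrix (Fin l)} {hp : IsType D l M} {r q : ℕ}
  [hr : Fact r.Prime] {K₀ : Type v} [Group K₀] (m : MData hp r q K₀)

/-- the exponents of `h_s` -/
def ex (D : ChevalleyDatum) (s : ℕ) : D.Idx → ℤ := Sum.elim (fun _ => 0) (fun x : Fin D.nroots => expo D s x.val)

theorem sum_ex (D : ChevalleyDatum) (s t : ℕ) :
    ∑ x, ex D s x * ex D t x = ∑ x : Fin D.nroots, expo D s x.val * expo D t x.val := by
  rw [Fintype.sum_sum_type]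
  simp [ex]

theorem sum_ex_sq (D : ChevalleyDatum) (s : ℕ) : ∑ x, ex D s x ^ 2 = ∑ x : Fin D.nroots, expo D s x.val ^ 2 := by
  rw [Fintype.sum_sum_type]
  simp [ex]

include hp in
theorem entry' {k : Type*} [Field k] {s t : ℕ} (hs : s < D.nroots) (ht : t < D.nroots) {z : k} (hz : z ≠ 0)
    (i j : ℕ) :
    (((ps hp hs (hS z) ^ i * ps hp ht (hS z) ^ j : ↥(D.group k)) : GL D.Idx k) : Matrix D.Idx D.Idx k) =
      Matrix.diagonal fun x => z ^ ((i : ℤ) * ex D s x + (j : ℤ) * ex D t x) := by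
  rw [Subgroup.coe_mul, Units.val_mul, entry hp hs hz i, entry hp ht hz j, Matrix.diagonal_mul_diagonal]
  congr 1
  funext x
  rcases x with x | x
  · simp [ex]
  · simp only [Sum.elim_inr, ex]
    rw [zpow_add₀ hz, mul_comm (i : ℤ), mul_comm (j : ℤ), zpow_mul, zpow_mul, zpow_natCast, zpow_natCast]

/-- **`p` classes of `p`-elements, `p ∣ q² - 1`** -/
theorem cls_of {p : ℕ} [hpp : Fact p.Prime] (hp2 : p ≠ 2) (hpr : p ≠ r) (hd : p ∣ q ^ 2 - 1) {s t : ℕ}
    (hs : s < D.nroots) (ht : t < D.nroots) (hgs : m.g (vec D l s) = vec D l s) (hgt : m.g (vec D l t) = vec D l t)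
    (hc : Cm D s t = true) {A C : ℤ} (hA : ∑ x : Fin D.nroots, expo D s x.val ^ 2 = A)
    (hC : ∑ x : Fin D.nroots, expo D t x.val ^ 2 = C)
    (hB : ∑ x : Fin D.nroots, expo D s x.val * expo D t x.val = 0)
    (hA' : (A : ZMod p) ≠ 0) (hC' : (C : ZMod p) ≠ 0) : Cls p K₀ := by
  obtain ⟨z, hz⟩ := exists_root (r := r) hpr
  have hz0 : z ≠ 0 := hz.ne_zero hpp.out.ne_zero
  obtain ⟨a, g, w, ha, hw⟩ := exists_elt m hp2 hpr hd hs hgs hz
  obtain ⟨b, g', w', hb, hw'⟩ := exists_elt m hp2 hpr hd ht hgt hz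
  have hoa := order_elt m hp2 hs hz ha hw
  have hob := order_elt m hp2 ht hz hb hw'
  have hab : a * b = b * a := m.inj (by rw [map_mul, map_mul, ha, hb, ps_comm hp hs ht hc])
  have h1 : ps hp hs w * m.ι a * (ps hp hs w)⁻¹ = ps hp hs (hS z) := by
    rw [ha, ← map_mul, ← map_inv, ← map_mul, hw]
  have h2 : ps hp ht w' * m.ι b * (ps hp ht w')⁻¹ = ps hp ht (hS z) := by
    rw [hb, ← map_mul, ← map_inv, ← map_mul, hw']
  obtain ⟨y, hy⟩ : ∃ y : ↥(D.group (KK r)), y = ps hp hs w * ps hp ht w' := ⟨_, rfl⟩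
  have h3 : y * m.ι a * y⁻¹ = ps hp hs (hS z) := by
    rw [← h1, hy, ha, mul_inv_rev]
    have e := ps_comm hp hs ht hc g w'
    calc ps hp hs w * ps hp ht w' * ps hp hs g * ((ps hp ht w')⁻¹ * (ps hp hs w)⁻¹)
        = ps hp hs w * (ps hp ht w' * ps hp hs g) * (ps hp ht w')⁻¹ * (ps hp hs w)⁻¹ := by group
      _ = ps hp hs w * (ps hp hs g * ps hp ht w') * (ps hp ht w')⁻¹ * (ps hp hs w)⁻¹ := by rw [e]
      _ = _ := by group
  have h4 : y * m.ι b * y⁻¹ = ps hp ht (hS z) := by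
    have e := ps_comm hp hs ht hc w (hS z)
    calc y * m.ι b * y⁻¹ = ps hp hs w * (ps hp ht w' * m.ι b * (ps hp ht w')⁻¹) * (ps hp hs w)⁻¹ := by
          rw [hy]; group
      _ = ps hp hs w * ps hp ht (hS z) * (ps hp hs w)⁻¹ := by rw [h2]
      _ = _ := by rw [e]; group
  refine cls_of_pair ((D.group (KK r)).subtype.comp m.ι) hp2 hz hab (by rw [← hoa, pow_orderOf_eq_one])
    (by rw [← hob, pow_orderOf_eq_one]) (ex D s) (ex D t) ?_ ?_ ?_ ?_
  · intro i j
    refine ⟨((ps hp hs (hS z) ^ i * ps hp ht (hS z) ^ j : ↥(D.group (KK r))) : GL D.Idx (KK r)), ?_,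
      entry' hs ht hz0 i j⟩
    have h5 : IsConj (m.ι (a ^ i * b ^ j)) (ps hp hs (hS z) ^ i * ps hp ht (hS z) ^ j) := by
      refine isConj_iff.2 ⟨y, ?_⟩
      rw [map_mul, map_pow, map_pow, ← h3, ← h4, conj_pow, conj_pow]
      group
    exact (D.group (KK r)).subtype.map_isConj h5
  · rw [sum_ex_sq, hA]
    exact hA'
  · rw [sum_ex_sq, hC]
    exact hC'
  · rw [sum_ex, hB]
    exact Int.cast_zero

end Main

end Cfsg.Agent.H349.KBE
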